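import Groth.Agent.Lib.FTDesc.Basic
import Groth.Agent.Lib.FTDesc.GenOn
import Mathlib.RingTheory.LocalRing.Module
import Mathlib.RingTheory.LocalRing.ResidueField.Basic

/-!
# Descent of the number of local generators along fpqc families
-/

set_option autoImplicit false
set_option linter.all false
set_option backward.isDefEq.respectTransparency false
set_option backward.isDefEq.respectTransparency.types false

universe u

open CategoryTheory CategoryTheory.Limits AlgebraicGeometry Opposite TopologicalSpace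
open AlgebraicGeometry.Scheme.Modules GrothLib.QCoh
open scoped TensorProduct

namespace GrothLib.LocGenDesc

open GrothLib.FTDesc (SpanAt exists_fin_spanning exists_nhd_spanAt_image)

variable {X Y : Scheme.{u}}

/-- Sections whose germs generate every stalk generate the module. -/
theorem exists_generatingSections_index (N : X.Modules) {ι : Type u} [Finite ι] (m : ι → Γ(N, ⊤))
    (h : ∀ y : X, Submodule.span (X.presheaf.stalk y) (Set.range fun i => N.presheaf.germ ⊤ y trivial (m i)) = ⊤) :
    ∃ G : SheafOfModules.GeneratingSections.{u} N, G.I = ι := by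
  let s : ι → SheafOfModules.sections (R := X.ringCatSheaf) N := fun i =>
    PresheafOfModules.sectionsMk (fun W => N.presheaf.map (homOfLE (le_top : W.unop ≤ ⊤)).op (m i)) (fun W W' f => by
      show N.presheaf.map _ (N.presheaf.map _ _) = _
      rw [← ConcreteCategory.comp_apply, ← Functor.map_comp]; rfl)
  have : Epi (SheafOfModules.freeHomEquiv (R := X.ringCatSheaf) N |>.symm s) := by
    refine @Preadditive.epi_of_cancel_zero X.Modules _ _ _ _ _ fun {P : X.Modules} η hη => ?_
    have hkill : ∀ i, η.val.app (op ⊤) (m i) = 0 := fun i => by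
      have h1 : SheafOfModules.freeHomEquiv P ((SheafOfModules.freeHomEquiv (R := X.ringCatSheaf) N).symm s ≫ η) i =
          SheafOfModules.sectionsMap η (s i) := by
        rw [SheafOfModules.freeHomEquiv_comp_apply, Equiv.apply_symm_apply]
      rw [hη] at h1
      have h2 := congrArg (fun t : SheafOfModules.sections (R := X.ringCatSheaf) P => t.val (op ⊤)) h1
      have h3 : (SheafOfModules.freeHomEquiv P (0 : SheafOfModules.free ι ⟶ P) i).val (op ⊤) = 0 := by
        rw [SheafOfModules.freeHomEquiv_apply]; rfl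
      have h4 : (s i).val (op ⊤) = m i := by
        show N.presheaf.map _ (m i) = m i
        exact (congrArg (fun k => k (m i)) (N.presheaf.map_id (op ⊤)))
      exact ((congrArg (η.val.app (op ⊤)) h4).symm.trans (h2.symm.trans h3))
    refine SheafOfModules.hom_ext (PresheafOfModules.hom_ext fun V' => ModuleCat.hom_ext (LinearMap.ext fun t => ?_))
    obtain ⟨V⟩ := V'
    refine TopCat.Presheaf.section_ext ⟨P.presheaf, P.isSheaf⟩ _ _ _ fun y hy => ?_
    show P.presheaf.germ V y hy (η.app V t) = P.presheaf.germ V y hy 0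
    rw [map_zero, ← GrothLib.QCoh.stalkLin_germ η hy t]
    have hz : ∀ v ∈ Submodule.span (X.presheaf.stalk y) (Set.range fun i => N.presheaf.germ ⊤ y trivial (m i)),
        GrothLib.QCoh.stalkLin η y v = 0 := by
      intro v hv
      induction hv using Submodule.span_induction with
      | mem z hz =>
        obtain ⟨i, rfl⟩ := hz
        rw [GrothLib.QCoh.stalkLin_germ η]
        exact (congrArg (P.presheaf.germ ⊤ y trivial) (hkill i)).trans (map_zero _)
      | zero => exact map_zero _
      | add a b _ _ ha hb => rw [map_add, ha, hb, add_zero]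
      | smul c a _ ha => rw [LinearMap.map_smul, ha, smul_zero]
    exact hz _ ((h y).ge Submodule.mem_top)
  exact ⟨{ I := ι, s := s, epi := this }, rfl⟩

set_option maxHeartbeats 1600000 in
/-- Local generation by finitely many sections gives finite type. -/
theorem exists_data_of_genOn (M : X.Modules) (r : ℕ)
    (h : ∀ x : X, ∃ (W : X.Opens) (ι : Type u) (_ : Fintype ι) (m : ι → Γ(M, W)), x ∈ W ∧ HomSh.GenOn M W m ∧ Nat.card ι ≤ r) :
    ∃ σ : SheafOfModules.LocalGeneratorsData.{u} (R := X.ringCatSheaf) M,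
      ∀ k, Finite (σ.generators k).I ∧ Nat.card (σ.generators k).I ≤ r := by
  choose W ι hι m hxW hgen hcard using h
  have hG : ∀ x, ∃ G : SheafOfModules.GeneratingSections.{u} (M.restrict (W x).ι), G.I = ι x := by
    intro x
    have := hι x
    have hle : (W x).ι ''ᵁ ⊤ ≤ W x := (W x).ι_image_le ⊤
    refine exists_generatingSections_index (M.restrict (W x).ι)
      (fun i => M.presheaf.map (homOfLE hle).op (m x i)) fun y => eq_top_iff.2 fun v _ => ?_
    let e := (Scheme.Modules.restrictStalkNatIso (W x).ι y).app M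
    let φ : (M.restrict (W x).ι).presheaf.stalk y →+ M.presheaf.stalk ((W x).ι y) := e.hom.hom
    have hφ : ∀ (V : (W x : Scheme.{u}).Opens) (hV : y ∈ V) (t : Γ(M.restrict (W x).ι, V)),
        φ ((M.restrict (W x).ι).presheaf.germ V y hV t) =
          M.presheaf.germ ((W x).ι ''ᵁ V) ((W x).ι y) ⟨y, hV, rfl⟩ t := fun V hV t =>
      ConcreteCategory.congr_hom (Scheme.Modules.germ_restrictStalkNatIso_hom_app (W x).ι y M (U := V) hV) t
    obtain ⟨c, hc⟩ := (Submodule.mem_span_range_iff_exists_fun _).1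
      ((hgen x ((W x).ι y) y.2).ge (Submodule.mem_top (x := φ v)))
    obtain ⟨T, hT, hyT, r, hr⟩ := GrothLib.Ref1.exists_repr_nhd (show (W x).ι y ∈ W x from y.2) c
    let T' : (W x : Scheme.{u}).Opens := (W x).ι ⁻¹ᵁ T
    have hT' : (W x).ι ''ᵁ T' ≤ T := by rw [Scheme.Hom.image_preimage_eq_opensRange_inf]; exact inf_le_right
    let r' : ι x → Γ(W x, T') := fun i => X.presheaf.map (homOfLE hT').op (r i)
    have hv : v = ∑ i, (W x : Scheme.{u}).presheaf.germ T' y hyT (r' i) •
        (M.restrict (W x).ι).presheaf.germ ⊤ y trivial (M.presheaf.map (homOfLE hle).op (m x i)) := by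
      have hinj : Function.Injective φ := (ConcreteCategory.bijective_of_isIso e.hom).1
      refine hinj ?_
      rw [map_sum, ← hc]
      refine Finset.sum_congr rfl fun i _ => ?_
      have h1 : (W x : Scheme.{u}).presheaf.germ T' y hyT (r' i) •
          (M.restrict (W x).ι).presheaf.germ ⊤ y trivial (M.presheaf.map (homOfLE hle).op (m x i)) =
          (M.restrict (W x).ι).presheaf.germ T' y hyT (r' i •
            (M.restrict (W x).ι).presheaf.map (homOfLE (le_top : T' ≤ ⊤)).op (M.presheaf.map (homOfLE hle).op (m x i))) := by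
        rw [Mero.germ_smul, TopCat.Presheaf.germ_res_apply]
      rw [h1]
      refine Eq.trans ?_ (FTDesc.restrictStalk_germ_smul M (W x) T' y hyT _ _).symm
      show c i • _ = X.presheaf.germ _ _ _ (X.presheaf.map (homOfLE hT').op (r i)) •
        M.presheaf.germ _ _ _ (M.presheaf.map (homOfLE ((W x).ι.image_mono le_top)).op (M.presheaf.map (homOfLE hle).op (m x i)))
      rw [TopCat.Presheaf.germ_res_apply, TopCat.Presheaf.germ_res_apply, TopCat.Presheaf.germ_res_apply, hr]
    rw [hv]
    exact Submodule.sum_mem _ fun i _ => Submodule.smul_mem _ _ (Submodule.subset_span ⟨i, rfl⟩)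
  choose G hG using hG
  have hcov : IsOpenCover W := IsOpenCover.mk (eq_top_iff.2 fun y _ => Opens.mem_iSup.2 ⟨y, hxW y⟩)
  let η : ∀ U : X.Opens, SheafOfModules.unit (X.ringCatSheaf.over U) ≅
      (overEquiv U).inverse.obj (SheafOfModules.unit (U : Scheme.{u}).ringCatSheaf) := fun U =>
    (overEquiv U).unitIso.app _ ≪≫ (overEquiv U).inverse.mapIso (overUnitIso U)
  have hpres : ∀ U : X.Opens, PreservesColimitsOfSize.{u, u} (overEquiv U).inverse := fun U =>
    (overEquiv U).symm.toAdjunction.leftAdjoint_preservesColimits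
  let σ : SheafOfModules.LocalGeneratorsData.{u} (R := X.ringCatSheaf) M :=
    { I := X, X := W, coversTop := (Opens.coversTop_iff _ W).2 hcov,
      generators := fun x =>
        have := hpres (W x)
        ((G x).map (overEquiv (W x)).inverse (η (W x))).ofEpi
          (((overEquiv (W x)).inverse.mapIso ((overFunctorEquiv (W x)).app M).symm) ≪≫
            ((overEquiv (W x)).unitIso.app (SheafOfModules.over M (W x))).symm).hom }
  refine ⟨σ, fun x => ?_⟩
  have hI : (σ.generators x).I = ι x := hG x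
  exact hI.symm ▸ ⟨(inferInstanceAs (Finite (ι x))), hcard x⟩

/-- Stalks are spanned by the germs of generating sections of a restriction. -/
theorem genOn_of_generating (F : X.Modules) (U : X.Opens)
    (G : SheafOfModules.GeneratingSections.{u} (F.restrict U.ι)) (y' : (U : Scheme.{u})) :
    Submodule.span (X.presheaf.stalk (U.ι y'))
      (Set.range fun i => F.presheaf.germ (U.ι ''ᵁ ⊤) (U.ι y') ⟨y', trivial, rfl⟩ ((G.s i).val (op ⊤))) = ⊤ := by
  let e := (Scheme.Modules.restrictStalkNatIso U.ι y').app F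
  refine eq_top_iff.2 fun v _ => ?_
  let φ : (F.restrict U.ι).presheaf.stalk y' →+ F.presheaf.stalk (U.ι y') := e.hom.hom
  have hφ : ∀ (W : (U : Scheme.{u}).Opens) (hW : y' ∈ W) (t : Γ(F.restrict U.ι, W)),
      φ ((F.restrict U.ι).presheaf.germ W y' hW t) =
        F.presheaf.germ (U.ι ''ᵁ W) (U.ι y') ⟨y', hW, rfl⟩ t := fun W hW t =>
    ConcreteCategory.congr_hom
      (Scheme.Modules.germ_restrictStalkNatIso_hom_app U.ι y' F (U := W) hW) t
  suffices key : ∀ w : (F.restrict U.ι).presheaf.stalk y', φ w ∈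
      Submodule.span (X.presheaf.stalk (U.ι y'))
        (Set.range fun i => F.presheaf.germ (U.ι ''ᵁ ⊤) (U.ι y') ⟨y', trivial, rfl⟩ ((G.s i).val (op ⊤))) by
    have hv : e.hom (e.inv v) = v := Iso.inv_hom_id_apply e v
    rw [← hv]
    exact key _
  intro w
  have hw := (HomSh.span_germ_eq_top G y').ge (Submodule.mem_top (x := w))
  induction hw using Submodule.span_induction with
  | mem z hz =>
    obtain ⟨j, rfl⟩ := hz
    refine Submodule.subset_span ⟨j, ?_⟩
    exact (hφ ⊤ trivial _).symm
  | zero => rw [map_zero]; exact zero_mem _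
  | add a b _ _ ha hb => rw [map_add]; exact add_mem ha hb
  | smul c z _ hz =>
    obtain ⟨V, hV, r, rfl⟩ := TopCat.Presheaf.exists_germ_eq (U : Scheme.{u}).presheaf c
    obtain ⟨V', hV', s, rfl⟩ := TopCat.Presheaf.exists_germ_eq (F.restrict U.ι).presheaf z
    have hW : y' ∈ V ⊓ V' := ⟨hV, hV'⟩
    have er := TopCat.Presheaf.germ_res_apply (U : Scheme.{u}).presheaf
      (homOfLE (inf_le_left : V ⊓ V' ≤ V)) y' hW r
    have es := TopCat.Presheaf.germ_res_apply (F.restrict U.ι).presheaf
      (homOfLE (inf_le_right : V ⊓ V' ≤ V')) y' hW s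
    rw [← es] at hz ⊢
    rw [← er, ← WeakAss.germ_smul (F := F.restrict U.ι) hW, hφ]
    rw [hφ] at hz
    erw [WeakAss.germ_smul (F := F) (V := U.ι ''ᵁ (V ⊓ V')) (x := U.ι y') ⟨y', hW, rfl⟩]
    exact Submodule.smul_mem _ _ hz

/-- Sections of a module with finite-type inverse image are finite on a compactly covered affine open. -/
theorem moduleFinite_of_family {κ : Type*} [Finite κ] {Q : κ → Scheme.{u}} (g : ∀ k, Q k ⟶ Y)
    (hflat : ∀ k, Flat (g k)) (M : Y.Modules) [M.IsQuasicoherent]
    (h : ∀ k, CohB1.IsFT ((Scheme.Modules.pullback (g k)).obj M))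
    {V : Y.Opens} (hV : IsAffineOpen V) {K : ∀ k, Set (Q k)} (hK : ∀ k, IsCompact (K k))
    (hKV : ∀ k, ∀ z ∈ K k, g k z ∈ V)
    (hVK : ∀ y ∈ V, ∃ k, ∃ z ∈ K k, g k z = y) : Module.Finite Γ(Y, V) Γ(M, V) := by
  classical
  have hpt : ∀ (k : κ) (z : K k), ∃ (S : Finset Γ(M, V)) (T : (Q k).Opens), (z : Q k) ∈ T ∧
      ∀ w ∈ T, ∃ hw : g k w ∈ V, SpanAt M (fun n : S => (n : Γ(M, V))) (g k w) hw := by
    rintro k₀ ⟨z, hz⟩
    have := hflat k₀
    let g := g k₀
    replace h := h k₀
    have hKV := hKV k₀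
    obtain ⟨v, hv⟩ := exists_fin_spanning g M h z
    let := Y.presheaf.algebra_section_stalk ⟨g z, hKV z hz⟩
    let : Module Γ(Y, V) (M.presheaf.stalk (g z)) := Module.compHom _ (Y.presheaf.germ V (g z) (hKV z hz)).hom
    have := FlatFP.isLocalization_stalk_primeAt hV (hKV z hz)
    obtain ⟨loc, hloc, hgerm⟩ := FlatFP.isLocalizedModule_germ M hV (hKV z hz)
    choose p hp using fun e : M.presheaf.stalk (g z) => hloc.surj e
    let S : Finset Γ(M, V) := v.image fun e => (p e).1
    have hspan : SpanAt M (fun n : S => (n : Γ(M, V))) (g z) (hKV z hz) := by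
      refine eq_top_iff.2 (hv.ge.trans (Submodule.span_le.2 fun e he => ?_))
      have hu : IsUnit (Y.presheaf.germ V (g z) (hKV z hz) (p e).2) :=
        IsLocalization.map_units (Y.presheaf.stalk (g z)) (p e).2
      refine (Submodule.smul_mem_iff_of_isUnit _ hu).1 (Submodule.subset_span ⟨⟨(p e).1, Finset.mem_image_of_mem _ he⟩, ?_⟩)
      exact ((hgerm _).symm.trans (hp e).symm)
    obtain ⟨T, hzT, hT⟩ := exists_nhd_spanAt_image g M h _ (hKV z hz) hspan
    exact ⟨S, T, hzT, hT⟩
  choose S T hzT hT using hpt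
  have := Fintype.ofFinite κ
  choose F hF using fun k => (hK k).elim_finite_subcover (fun z : K k => (T k z : Set (Q k)))
    (fun z => (T k z).isOpen) fun z hz => Set.mem_iUnion.2 ⟨⟨z, hz⟩, hzT k _⟩
  let N : Submodule Γ(Y, V) Γ(M, V) := Submodule.span Γ(Y, V)
    ((Finset.univ : Finset κ).biUnion fun k => (F k).biUnion (S k) : Set Γ(M, V))
  refine ⟨(eq_top_iff.2 fun a _ => ?_ : N = ⊤) ▸ Submodule.fg_span (Finset.finite_toSet _)⟩
  by_contra ha
  obtain ⟨P, hP, hle⟩ := Ideal.exists_le_maximal (N.colon {a}) (fun htop => ha (by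
    have h1 : (1 : Γ(Y, V)) ∈ N.colon {a} := htop ▸ Submodule.mem_top
    simpa [Submodule.mem_colon_singleton] using h1))
  obtain ⟨y, hy, hyP⟩ := AssPts.exists_point hV P hP.isPrime
  obtain ⟨k₁, z, hzK, rfl⟩ := hVK y hy
  obtain ⟨z₀, hz₀F, hzT₀⟩ := Set.mem_iUnion₂.1 (hF k₁ hzK)
  obtain ⟨_, hsp⟩ := hT k₁ z₀ z hzT₀
  let g := g k₁
  let := Y.presheaf.algebra_section_stalk ⟨g z, hy⟩
  let : Module Γ(Y, V) (M.presheaf.stalk (g z)) := Module.compHom _ (Y.presheaf.germ V (g z) hy).hom
  obtain ⟨loc, hloc, hgerm⟩ := FlatFP.isLocalizedModule_germ M hV hy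
  obtain ⟨c, hc⟩ := (Submodule.mem_span_range_iff_exists_fun _).1 (hsp.ge (Submodule.mem_top (x := M.presheaf.germ V (g z) hy a)))
  obtain ⟨d, b, hd, hb⟩ := FlatFP.exists_common_denominator hV hy c
  have heq : loc (d • a) = loc (∑ k : S k₁ z₀, b k • (k : Γ(M, V))) := by
    simp only [map_sum, hgerm, Mero.germ_smul]
    rw [← hc, Finset.smul_sum]
    exact Finset.sum_congr rfl fun k _ => by rw [hb, smul_smul]
  obtain ⟨e, he⟩ := hloc.exists_of_eq heq
  have hmem : (e : Γ(Y, V)) * d ∈ N.colon {a} := by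
    rw [Submodule.mem_colon_singleton, mul_smul]
    rw [show (e : Γ(Y, V)) • d • a = (e : Γ(Y, V)) • ∑ k : S k₁ z₀, b k • (k : Γ(M, V)) from he]
    exact Submodule.smul_mem _ _ (Submodule.sum_mem _ fun k _ => Submodule.smul_mem _ _
      (Submodule.subset_span (Finset.mem_coe.2 (Finset.mem_biUnion.2 ⟨k₁, Finset.mem_univ _,
        Finset.mem_biUnion.2 ⟨z₀, hz₀F, k.2⟩⟩))))
  rcases hP.isPrime.mem_or_mem (hle hmem) with h1 | h1
  · exact e.2 (hyP ▸ h1)
  · exact hd (hyP ▸ h1)

end GrothLib.LocGenDesc
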