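import Groth.Agent.Lib.LocGenDesc.Copy
import Groth.Agent.Lib.FpqcCov.Basic

/-!
# fpqc descent of local generation by at most `r` sections
-/

set_option autoImplicit false
set_option linter.all false
set_option backward.isDefEq.respectTransparency false
set_option backward.isDefEq.respectTransparency.types false

universe u

open CategoryTheory CategoryTheory.Limits AlgebraicGeometry Opposite TopologicalSpace
open AlgebraicGeometry.Scheme.Modules GrothLib.QCoh
open scoped TensorProduct

namespace GrothLib.LocGenDesc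

open GrothLib.FTDesc (SpanAt exists_fin_spanning)

/-- A bound on the generators of a local base change bounds the generators. -/
theorem exists_fin_span {B S M : Type u} [CommRing B] [CommRing S] [IsLocalRing B] [IsLocalRing S]
    [Algebra B S] [IsLocalHom (algebraMap B S)] [AddCommGroup M] [Module B M] [Module.Finite B M]
    {ι : Type u} [Fintype ι] {r : ℕ} (hr : Fintype.card ι ≤ r) (w : ι → S ⊗[B] M)
    (hw : Submodule.span S (Set.range w) = ⊤) :
    ∃ v : ULift.{u} (Fin r) → M, Submodule.span B (Set.range v) = ⊤ := by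
  classical
  let k := IsLocalRing.ResidueField B
  let K := IsLocalRing.ResidueField S
  let e := TensorProduct.AlgebraTensorModule.cancelBaseChange B S K K M
  let e' := TensorProduct.AlgebraTensorModule.cancelBaseChange B k K K M
  let z : ι → K ⊗[B] M := fun i => e ((1 : K) ⊗ₜ[S] w i)
  have hz : Submodule.span K (Set.range z) = ⊤ := by
    refine eq_top_iff.2 fun a _ => ?_
    rw [← e.apply_symm_apply a]
    induction e.symm a using TensorProduct.induction_on with
    | zero => rw [map_zero]; exact zero_mem _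
    | add p q hp hq => rw [map_add]; exact add_mem hp hq
    | tmul c m =>
      rw [show c ⊗ₜ[S] m = c • ((1 : K) ⊗ₜ[S] m) by
        rw [TensorProduct.smul_tmul', smul_eq_mul, mul_one], _root_.map_smul]
      refine Submodule.smul_mem _ _ ?_
      have hm : m ∈ Submodule.span S (Set.range w) := hw.ge Submodule.mem_top
      induction hm using Submodule.span_induction with
      | mem v hv => obtain ⟨i, rfl⟩ := hv; exact Submodule.subset_span ⟨i, rfl⟩
      | zero => rw [TensorProduct.tmul_zero, map_zero]; exact zero_mem _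
      | add p q _ _ hp hq => rw [TensorProduct.tmul_add, map_add]; exact add_mem hp hq
      | smul b v _ hv =>
        rw [TensorProduct.tmul_smul, ← IsScalarTower.algebraMap_smul K b ((1 : K) ⊗ₜ[S] v), _root_.map_smul]
        exact Submodule.smul_mem _ _ hv
  have hd : Module.finrank k (k ⊗[B] M) ≤ r := by
    have h1 : Module.finrank K (Submodule.span K (Set.range z)) ≤ Fintype.card ι :=
      finrank_range_le_card z
    rw [hz, finrank_top, ← e'.finrank_eq, Module.finrank_baseChange] at h1
    exact h1.trans hr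
  let b := Module.finBasis k (k ⊗[B] M)
  choose f hf using fun i => TensorProduct.mk_surjective B M k IsLocalRing.residue_surjective (b i)
  have hspan := IsLocalRing.span_eq_top_of_tmul_eq_basis f b hf
  refine ⟨fun i => if h : i.down.1 < Module.finrank k (k ⊗[B] M) then f ⟨i.down.1, h⟩ else 0,
    eq_top_iff.2 (hspan.ge.trans (Submodule.span_le.2 ?_))⟩
  rintro _ ⟨j, rfl⟩
  exact Submodule.subset_span ⟨⟨j.1, lt_of_lt_of_le j.2 hd⟩, dif_pos j.2⟩

theorem exists_data {ι : Type u} {X : Scheme.{u}} {Xi : ι → Scheme.{u}} (f : ∀ i, Xi i ⟶ X)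
    (hf : Presieve.ofArrows Xi f ∈ Scheme.fpqcPrecoverage X) (F : X.Modules) [F.IsQuasicoherent] (r : ℕ)
    (h : ∀ i, ∃ σ : SheafOfModules.LocalGeneratorsData.{u} (R := (Xi i).ringCatSheaf)
      ((Scheme.Modules.pullback (f i)).obj F),
      ∀ k, Finite (σ.generators k).I ∧ Nat.card (σ.generators k).I ≤ r) :
    ∃ σ : SheafOfModules.LocalGeneratorsData.{u} (R := X.ringCatSheaf) F,
      ∀ k, Finite (σ.generators k).I ∧ Nat.card (σ.generators k).I ≤ r := by
  classical
  obtain ⟨hqc, hflat, hsurj⟩ := FpqcCov.quasiCompactCover_and_flat f hf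
  choose σ hσ using h
  have hft : ∀ i, CohB1.IsFT ((Scheme.Modules.pullback (f i)).obj F) := fun i => by
    have h1 : SheafOfModules.LocalGeneratorsData.IsFiniteType.{u, u, u, u} (σ i) := by
      constructor; intro k; exact ⟨(hσ i k).1⟩
    constructor
    exact ⟨σ i, h1⟩
  have hFT : CohB1.IsFT F := (QCoh.isFiniteType_iff_moduleFinite F).2 fun V hV => by
    obtain ⟨n, idx, W, hW, heq⟩ := QuasiCompactCover.exists_isAffineOpen_of_isCompact
      (PreZeroHypercover.mk ι Xi f) (U := V) hV.isCompact
    refine moduleFinite_of_family (fun k => f (idx k)) (fun k => hflat _) F (fun k => hft _) hV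
      (K := fun k => (W k : Set _)) (fun k => (hW k).isCompact) (fun k z hz => ?_) (fun y hy => ?_)
    · show f (idx k) z ∈ (V : Set X)
      rw [← heq]
      exact Set.mem_iUnion.2 ⟨k, z, hz, rfl⟩
    · rw [← SetLike.mem_coe, ← heq] at hy
      obtain ⟨k, z, hz, hzy⟩ := Set.mem_iUnion.1 hy
      exact ⟨k, z, hz, hzy⟩
  refine exists_data_of_genOn F r fun y => ?_
  obtain ⟨i, x, rfl⟩ := hsurj y
  obtain ⟨k, hk⟩ := ((Opens.coversTop_iff _ (σ i).X).1 (σ i).coversTop).exists_mem x
  let P := (Scheme.Modules.pullback (f i)).obj F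
  let U : (Xi i).Opens := (σ i).X k
  have : PreservesColimitsOfSize.{u, u} (overEquiv U).functor :=
    (overEquiv U).toAdjunction.leftAdjoint_preservesColimits
  let η : SheafOfModules.unit ((U : Scheme.{u})).ringCatSheaf ≅
      (overEquiv U).functor.obj (SheafOfModules.unit ((Xi i).ringCatSheaf.over U)) :=
    (restrictUnitIso (Scheme.Opens.ι U)).symm ≪≫ ((overFunctorEquiv U).app _).symm
  let G : SheafOfModules.GeneratingSections.{u} (P.restrict U.ι) :=
    (((σ i).generators k).map (overEquiv U).functor η).ofEpi ((overFunctorEquiv U).app P).hom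
  have hGI : G.I = ((σ i).generators k).I := rfl
  haveI : Finite G.I := hGI ▸ (hσ i k).1
  letI : Fintype G.I := Fintype.ofFinite _
  have hcard : Fintype.card G.I ≤ r := by
    rw [← Nat.card_eq_fintype_card]; exact hGI ▸ (hσ i k).2
  let B := X.presheaf.stalk (f i x)
  let S := (Xi i).presheaf.stalk x
  letI : Algebra B S := ((f i).stalkMap x).hom.toAlgebra
  haveI : IsLocalHom (algebraMap B S) := inferInstanceAs (IsLocalHom ((f i).stalkMap x).hom)
  haveI := hflat i
  obtain ⟨v, hv⟩ := exists_fin_spanning (f i) F (hft i) x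
  haveI : Module.Finite B (F.presheaf.stalk (f i x)) := ⟨⟨v, hv⟩⟩
  let e : P.presheaf.stalk x ≃ₗ[S] S ⊗[B] F.presheaf.stalk (f i x) :=
    ((OX.pullStalkIso (f i) x).app F).toLinearEquiv
  let g : G.I → P.presheaf.stalk x := fun j =>
    P.presheaf.germ (U.ι ''ᵁ ⊤) x ⟨⟨x, hk⟩, trivial, rfl⟩ ((G.s j).val (op ⊤))
  have hg : Submodule.span S (Set.range g) = ⊤ := genOn_of_generating P U G ⟨x, hk⟩
  obtain ⟨w, hw⟩ := exists_fin_span (M := F.presheaf.stalk (f i x)) hcard (fun j => e (g j)) (by
    rw [show (fun j => e (g j)) = e ∘ g from rfl, Set.range_comp]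
    exact (Submodule.map_span e.toLinearMap (Set.range g)).symm.trans
      (by rw [hg, Submodule.map_top]; exact LinearMap.range_eq_top.2 e.surjective))
  choose W hW n hn using fun j => TopCat.Presheaf.exists_germ_eq F.presheaf (w j)
  let U₀ : X.Opens := ⟨⋂ j, (W j : Set X), isOpen_iInter_of_finite fun j => (W j).isOpen⟩
  have hU₀ : ∀ j, U₀ ≤ W j := fun j z hz => Set.mem_iInter.1 hz j
  have hxU : f i x ∈ U₀ := Set.mem_iInter.2 hW
  let n₀ : ULift.{u} (Fin r) → Γ(F, U₀) := fun j => F.presheaf.map (homOfLE (hU₀ j)).op (n j)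
  have hspan : SpanAt F n₀ (f i x) hxU := by
    refine eq_top_iff.2 (hw.ge.trans (Submodule.span_le.2 ?_))
    rintro _ ⟨j, rfl⟩
    exact Submodule.subset_span ⟨j, (TopCat.Presheaf.germ_res_apply F.presheaf _ _ _ _).trans (hn j)⟩
  obtain ⟨T, hT, hxT, hT'⟩ := FTDesc.exists_nhd_spanAt hFT n₀ hxU hspan
  refine ⟨T, ULift.{u} (Fin r), inferInstance, fun j => F.presheaf.map (homOfLE hT).op (n₀ j), hxT,
    fun z hz => eq_top_iff.2 ((hT' z hz).ge.trans (Submodule.span_le.2 ?_)), ?_⟩
  · rintro _ ⟨j, rfl⟩
    exact Submodule.subset_span ⟨j, TopCat.Presheaf.germ_res_apply F.presheaf _ _ _ _⟩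
  · simp

end GrothLib.LocGenDesc
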